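import Mathlib
import Cfsg.Prelude.Def_Characters
import Cfsg.Agent.Characters.Core
import Cfsg.Agent.OddOrderCharacters.PF9.Reducible
import Cfsg.Agent.OddOrderCharacters.PF4b.Prime
import Cfsg.Agent.S0188

/-!
Irreducible characters of commuting products of subgroups, trivial on the centres.

* `CC M θ` : `θ` is an irreducible character of the subgroup `M`, trivial on the centre of `M`;
* `Sums M θ U` : the sum of `θ` over the subgroup `U` is zero;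
* `exists_prod` : the character `θ₁ θ₂` of `M₁ M₂`.
-/

set_option autoImplicit false

namespace Cfsg.Agent.H622.Levi

open Cfsg Cfsg.Agent.Characters

variable {Y : Type*} [Group Y]

/-- irreducible and trivial on the centre -/
structure CC (M : Subgroup Y) (θ : M → ℂ) : Prop where
  irr : IsIrrCharacter M θ
  cent : ∀ z : M, z ∈ Subgroup.center M → θ z = θ 1

/-- the sum over `U` is zero -/
def Sums (M : Subgroup Y) (θ : M → ℂ) (U : Subgroup Y) : Prop :=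
  ∀ (hU : U ≤ M) [Fintype U], ∑ u : U, θ ⟨u, hU u.2⟩ = 0

/-- values on cosets of the centre -/
theorem CC.mul_cent {M : Subgroup Y} [Finite M] {θ : M → ℂ} (hθ : CC M θ) {z : M} (hz : z ∈ Subgroup.center M)
    (g : M) : θ (z * g) = θ g :=
  OddOrderCharacters.PF4b.Prime.char_mul_of_ker (Core.isIrr_isCharacter hθ.irr) (hθ.cent z hz) g

/-- an element of `M₁ ⊓ M₂` is central in `M₁` -/
theorem mem_center_of_comm {M₁ M₂ : Subgroup Y} (hc : ∀ a ∈ M₁, ∀ b ∈ M₂, a * b = b * a) {z : M₁}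
    (hz : (z : Y) ∈ M₂) : z ∈ Subgroup.center M₁ := by
  rw [Subgroup.mem_center_iff]
  intro g
  apply Subtype.ext
  exact hc g g.2 z hz

/-- **Characters of commuting products.** -/
theorem exists_prod {M₁ M₂ : Subgroup Y} [Finite M₁] [Finite M₂] (hc : ∀ a ∈ M₁, ∀ b ∈ M₂, a * b = b * a)
    {θ₁ : M₁ → ℂ} {θ₂ : M₂ → ℂ} (h₁ : CC M₁ θ₁) (h₂ : CC M₂ θ₂) :
    ∃ θ : ↥(M₁ ⊔ M₂) → ℂ, CC (M₁ ⊔ M₂) θ ∧
      ∀ (a : M₁) (b : M₂) (x : ↥(M₁ ⊔ M₂)), (x : Y) = a * b → θ x = θ₁ a * θ₂ b := by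
  let f : M₁ × M₂ →* ↥(M₁ ⊔ M₂) :=
    { toFun := fun x => ⟨x.1 * x.2, mul_mem (le_sup_left (a := M₁) x.1.2) (le_sup_right (b := M₂) x.2.2)⟩
      map_one' := Subtype.ext (mul_one 1)
      map_mul' := fun x y => Subtype.ext (by
        change (x.1 * y.1 : Y) * (x.2 * y.2) = x.1 * x.2 * (y.1 * y.2)
        have h1 := hc y.1 y.1.2 x.2 x.2.2
        calc (x.1 * y.1 : Y) * (x.2 * y.2) = x.1 * (y.1 * x.2) * y.2 := by group
          _ = x.1 * (x.2 * y.1) * y.2 := by rw [h1]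
          _ = x.1 * x.2 * (y.1 * y.2) := by group) }
  have hn : M₂ ≤ Subgroup.normalizer (M₁ : Set Y) := by
    intro b hb
    rw [Subgroup.mem_normalizer_iff]
    intro a
    constructor
    · intro ha
      rw [← hc a ha b hb]
      rwa [mul_inv_cancel_right]
    · intro ha
      have h1 := hc _ ha b hb
      have h2 : b * (b * a * b⁻¹) * b⁻¹ = b * a * b⁻¹ := by rw [← h1]; group
      have h3 : b * a * b⁻¹ = a := mul_left_cancel (a := b) (by
        calc b * (b * a * b⁻¹) = b * (b * a * b⁻¹) * b⁻¹ * b := by group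
          _ = b * a * b⁻¹ * b := by rw [h2]
          _ = b * a := by group)
      rwa [h3] at ha
  have hf : Function.Surjective f := by
    rintro ⟨x, hx⟩
    have h1 : x ∈ ((M₁ ⊔ M₂ : Subgroup Y) : Set Y) := hx
    rw [Subgroup.coe_mul_of_right_le_normalizer_left _ _ hn, Set.mem_mul] at h1
    obtain ⟨a, ha, b, hb, e⟩ := h1
    exact ⟨(⟨a, ha⟩, ⟨b, hb⟩), Subtype.ext e⟩
  have hχ := Cfsg.Agent.S0188.isIrr_outer h₁.irr h₂.irr
  -- central elements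
  have hcen : ∀ x : M₁ × M₂, f x ∈ Subgroup.center ↥(M₁ ⊔ M₂) → θ₁ x.1 * θ₂ x.2 = θ₁ 1 * θ₂ 1 := by
    rintro ⟨a, b⟩ hx
    rw [Subgroup.mem_center_iff] at hx
    have ha : a ∈ Subgroup.center M₁ := by
      rw [Subgroup.mem_center_iff]
      intro g
      have h1 := congrArg Subtype.val (hx ⟨g, le_sup_left (b := M₂) g.2⟩)
      change (g : Y) * (a * b) = a * b * g at h1
      have h2 := hc g g.2 b b.2
      apply Subtype.ext
      change (g : Y) * a = a * g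
      apply mul_right_cancel (b := (b : Y))
      rw [mul_assoc, h1, mul_assoc, ← h2, mul_assoc]
    have hb : b ∈ Subgroup.center M₂ := by
      rw [Subgroup.mem_center_iff]
      intro g
      have h1 := congrArg Subtype.val (hx ⟨g, le_sup_right (a := M₁) g.2⟩)
      change (g : Y) * (a * b) = a * b * g at h1
      have h2 := hc a a.2 g g.2
      apply Subtype.ext
      change (g : Y) * b = b * g
      apply mul_left_cancel (a := (a : Y))
      rw [← mul_assoc, h2, mul_assoc, h1, mul_assoc]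
    rw [h₁.cent a ha, h₂.cent b hb]
  obtain ⟨θ, hθ, hv⟩ := OddOrderCharacters.PF9.Reducible.exists_of_surjective f hf hχ (by
    intro x hx
    exact hcen x (by rw [hx]; exact one_mem _))
  refine ⟨θ, ⟨hθ, ?_⟩, ?_⟩
  · intro z hz
    obtain ⟨x, rfl⟩ := hf z
    have h1 := hv 1
    rw [map_one] at h1
    rw [hv x, h1]
    exact hcen x hz
  · intro a b x hx
    have h1 : x = f (a, b) := Subtype.ext hx
    rw [h1, hv]

/-- the restriction to the first factor -/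
theorem sums_left {M₁ M₂ : Subgroup Y} {θ₁ : M₁ → ℂ} {θ₂ : M₂ → ℂ} {θ : ↥(M₁ ⊔ M₂) → ℂ}
    (hv : ∀ (a : M₁) (b : M₂) (x : ↥(M₁ ⊔ M₂)), (x : Y) = a * b → θ x = θ₁ a * θ₂ b) {U : Subgroup Y}
    (hU : U ≤ M₁) (hs : Sums M₁ θ₁ U) : Sums (M₁ ⊔ M₂) θ U := by
  intro hU' _
  have h1 : ∀ u : U, θ ⟨u, hU' u.2⟩ = θ₁ ⟨u, hU u.2⟩ * θ₂ 1 := fun u =>
    hv ⟨u, hU u.2⟩ 1 _ (mul_one _).symm
  rw [Finset.sum_congr rfl fun u _ => h1 u, ← Finset.sum_mul, hs hU, zero_mul]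

/-- the restriction to the second factor -/
theorem sums_right {M₁ M₂ : Subgroup Y} {θ₁ : M₁ → ℂ} {θ₂ : M₂ → ℂ} {θ : ↥(M₁ ⊔ M₂) → ℂ}
    (hv : ∀ (a : M₁) (b : M₂) (x : ↥(M₁ ⊔ M₂)), (x : Y) = a * b → θ x = θ₁ a * θ₂ b) {U : Subgroup Y}
    (hU : U ≤ M₂) (hs : Sums M₂ θ₂ U) : Sums (M₁ ⊔ M₂) θ U := by
  intro hU' _
  have h1 : ∀ u : U, θ ⟨u, hU' u.2⟩ = θ₁ 1 * θ₂ ⟨u, hU u.2⟩ := fun u =>
    hv 1 ⟨u, hU u.2⟩ _ (one_mul _).symm
  rw [Finset.sum_congr rfl fun u _ => h1 u, ← Finset.mul_sum, hs hU, mul_zero]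

/-- the version for a group equal to the join -/
theorem exists_prod' {N M₁ M₂ : Subgroup Y} (hN : N = M₁ ⊔ M₂) [Finite M₁] [Finite M₂]
    (hc : ∀ a ∈ M₁, ∀ b ∈ M₂, a * b = b * a) {θ₁ : M₁ → ℂ} {θ₂ : M₂ → ℂ} (h₁ : CC M₁ θ₁) (h₂ : CC M₂ θ₂) :
    ∃ θ : N → ℂ, CC N θ ∧ (∀ (a : M₁) (b : M₂) (x : N), (x : Y) = a * b → θ x = θ₁ a * θ₂ b) ∧
      (∀ U ≤ M₁, Sums M₁ θ₁ U → Sums N θ U) ∧ ∀ U ≤ M₂, Sums M₂ θ₂ U → Sums N θ U := by
  subst hN
  obtain ⟨θ, h1, h2⟩ := exists_prod hc h₁ h₂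
  exact ⟨θ, h1, h2, fun U hU hs => sums_left h2 hU hs, fun U hU hs => sums_right h2 hU hs⟩

end Cfsg.Agent.H622.Levi
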