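import Mathlib
import Cfsg.Agent.H622.Levi.Prod
import Cfsg.Agent.Nodes.Block
import Cfsg.Agent.Nodes.MuSq

/-!
Levi subgroups of disconnected sets of nodes.

`MJ cs h X J` : the group generated by the root groups of `J`; `rad cs h X J i` : the unipotent radical of the maximal
parabolic subgroup `J \ {i}` in `MJ`; `Cus cs h X J θ d` : `θ` is a cuspidal irreducible character of `MJ` of degree `d`,
trivial on the centre.  `Cus.prod` : orthogonal sets of nodes.
-/

set_option autoImplicit false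
set_option linter.unusedSectionVars false

namespace Cfsg.Agent.H622.Levi

open Cfsg Cfsg.Agent.Characters CoxeterSystem Cfsg.Agent.ChevalleyStructure.CoxeterGeom Cfsg.Agent.Tits.Roots
  Cfsg.Agent.Tits.Core Cfsg.Agent.Nodes.Reps Cfsg.Agent.Nodes.BNOf Cfsg.Agent.Nodes.StabComb Cfsg.Agent.Nodes.Block
open scoped commutatorElement

variable {I W Y : Type*} [Fintype I] [DecidableEq I] [Group W] [Group Y] {M : CoxeterMatrix I}

/-- the group generated by the root groups of `J` -/
def MJ (cs : CoxeterSystem M W) {A : I → I → ℤ} (h : IsCartan M A) (X : (I → ℤ) → Subgroup Y) (J : Set I) :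
    Subgroup Y := RGD.Sup X (RootsJ cs h J)

/-- the unipotent radical of the maximal parabolic subgroup `J \ {i}` of `MJ` -/
def rad (cs : CoxeterSystem M W) {A : I → I → ℤ} (h : IsCartan M A) (X : (I → ℤ) → Subgroup Y) (J : Set I) (i : I) :
    Subgroup Y := RGD.Sup X {x | x ∈ PosJ cs h J ∧ 0 < x i}

/-- `θ` is a cuspidal irreducible character of `MJ` of degree `d`, trivial on the centre -/
structure Cus (cs : CoxeterSystem M W) {A : I → I → ℤ} (h : IsCartan M A) (X : (I → ℤ) → Subgroup Y) (J : Set I)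
    (θ : MJ cs h X J → ℂ) (d : ℂ) : Prop where
  cc : CC (MJ cs h X J) θ
  sums : ∀ i ∈ J, Sums (MJ cs h X J) θ (rad cs h X J i)
  deg : θ 1 = d

variable {cs : CoxeterSystem M W} {A : I → I → ℤ} {h : IsCartan M A} {p : ℕ} {T : Subgroup Y} {n : I → Y}
  {X : (I → ℤ) → Subgroup Y}

theorem rad_le_MJ {J : Set I} {i : I} : rad cs h X J i ≤ MJ cs h X J :=
  RGD.Sup_mono fun _ hx => PosJ_subset J hx.1

section

variable [Fintype W] {K J : Set I} (hS : Sep M K J)
include hS

theorem rootsJ_eq : RootsJ cs h J = RootsJ cs h K ∪ RootsJ cs h (J \ K) := by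
  ext x
  constructor
  · intro hx
    exact hS.mem_or hx
  · rintro (hx | hx)
    · exact ⟨hx.1, fun k hk => hx.2 k fun h0 => hk (hS.1 h0)⟩
    · exact ⟨hx.1, fun k hk => hx.2 k fun h0 => hk h0.1⟩

theorem MJ_eq_sup : MJ cs h X J = MJ cs h X K ⊔ MJ cs h X (J \ K) := by
  unfold MJ
  rw [rootsJ_eq hS]
  apply le_antisymm
  · refine RGD.Sup_le fun x hx => ?_
    rcases hx with hx | hx
    · exact le_trans (RGD.le_Sup hx) le_sup_left
    · exact le_trans (RGD.le_Sup hx) le_sup_right
  · exact sup_le (RGD.Sup_mono Set.subset_union_left) (RGD.Sup_mono Set.subset_union_right)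

theorem rad_eq_left {i : I} (hi : i ∈ K) : rad cs h X J i = rad cs h X K i := by
  unfold rad
  congr 1
  ext x
  constructor
  · rintro ⟨⟨hr, h0, hx⟩, hpos⟩
    refine ⟨⟨hr, h0, ?_⟩, hpos⟩
    rcases hS.mem_or (cs := cs) (h := h) (x := x) ⟨hr, hx⟩ with h1 | h1
    · exact h1.2
    · exfalso
      rw [h1.2 i (fun h2 => h2.2 hi)] at hpos
      exact lt_irrefl _ hpos
  · rintro ⟨⟨hr, h0, hx⟩, hpos⟩
    exact ⟨⟨hr, h0, fun k hk => hx k fun h1 => hk (hS.1 h1)⟩, hpos⟩

theorem comm_MJ (R : RGD cs h p T n X) : ∀ a ∈ MJ cs h X K, ∀ b ∈ MJ cs h X (J \ K), a * b = b * a := by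
  have key : ∀ x ∈ RootsJ cs h K, ∀ y ∈ RootsJ cs h (J \ K), ∀ a ∈ X x, ∀ b ∈ X y, a * b = b * a := by
    intro x hx y hy a ha b hb
    have hx0 := hx.1.ne_zero
    have hy0 := hy.1.ne_zero
    -- a vector supported on both sets is zero
    have hd : ∀ z : I → ℤ, (∀ k, k ∉ K → z k = 0) → (∀ k, k ∉ J \ K → z k = 0) → z = 0 := by
      intro z h1 h2
      funext k
      by_cases hk : k ∈ K
      · exact h2 k fun h3 => h3.2 hk
      · exact h1 k hk
    refine Cfsg.Agent.Nodes.MuSq.comm_one R hx.1 hy.1 ?_ ?_ ?_ ha hb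
    · intro e
      exact hx0 (hd x hx.2 (by rw [e]; exact hy.2))
    · intro e
      exact hx0 (hd x hx.2 (by
        rw [e]
        intro k hk
        rw [Pi.neg_apply, hy.2 k hk, neg_zero]))
    · rintro z ⟨hz, m, α, β, hm, hα, hβ, e⟩
      have hzJ : z ∈ RootsJ cs h J := by
        refine ⟨hz, fun k hk => ?_⟩
        have h1 := congrFun e k
        rw [Pi.smul_apply, Pi.add_apply, Pi.smul_apply, Pi.smul_apply,
          hx.2 k (fun h2 => hk (hS.1 h2)), hy.2 k (fun h2 => hk h2.1), smul_zero, smul_zero, add_zero,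
          smul_eq_mul] at h1
        rcases mul_eq_zero.1 h1 with h2 | h2
        · omega
        · exact h2
      rcases hS.mem_or hzJ with h1 | h1
      · apply hy0
        apply hd y _ hy.2
        intro k hk
        have h2 := congrFun e k
        rw [Pi.smul_apply, Pi.add_apply, Pi.smul_apply, Pi.smul_apply, h1.2 k hk, hx.2 k hk, smul_zero, smul_zero,
          zero_add, smul_eq_mul] at h2
        rcases mul_eq_zero.1 h2.symm with h3 | h3
        · omega
        · exact h3
      · apply hx0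
        apply hd x hx.2
        intro k hk
        have h2 := congrFun e k
        rw [Pi.smul_apply, Pi.add_apply, Pi.smul_apply, Pi.smul_apply, h1.2 k hk, hy.2 k hk, smul_zero, smul_zero,
          add_zero, smul_eq_mul] at h2
        rcases mul_eq_zero.1 h2.symm with h3 | h3
        · omega
        · exact h3
  intro a ha b hb
  have h1 : MJ cs h X K ≤ Subgroup.centralizer (MJ cs h X (J \ K) : Set Y) := by
    refine RGD.Sup_le fun x hx => ?_
    intro a ha
    have h2 : MJ cs h X (J \ K) ≤ Subgroup.centralizer {a} := by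
      refine RGD.Sup_le fun y hy => ?_
      intro b hb
      rw [Subgroup.mem_centralizer_singleton_iff]
      exact (key x hx y hy a ha b hb).symm
    rw [Subgroup.mem_centralizer_iff]
    intro c hc
    exact Subgroup.mem_centralizer_singleton_iff.1 (h2 hc)
  exact (Subgroup.mem_centralizer_iff.1 (h1 ha) b hb).symm

/-- **Products of cuspidal characters.** -/
theorem Cus.prod [Finite Y] (R : RGD cs h p T n X) {θ₁ : MJ cs h X K → ℂ} {θ₂ : MJ cs h X (J \ K) → ℂ} {d₁ d₂ : ℂ}
    (h₁ : Cus cs h X K θ₁ d₁) (h₂ : Cus cs h X (J \ K) θ₂ d₂) :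
    ∃ θ : MJ cs h X J → ℂ, Cus cs h X J θ (d₁ * d₂) ∧
      ∀ (a : MJ cs h X K) (b : MJ cs h X (J \ K)) (x : MJ cs h X J), (x : Y) = a * b → θ x = θ₁ a * θ₂ b := by
  obtain ⟨θ, hθ, hv, hl, hr⟩ := exists_prod' (MJ_eq_sup hS) (comm_MJ hS R) h₁.cc h₂.cc
  refine ⟨θ, ⟨hθ, fun i hi => ?_, ?_⟩, hv⟩
  · by_cases hiK : i ∈ K
    · rw [rad_eq_left hS hiK]
      exact hl _ rad_le_MJ (h₁.sums i hiK)
    · rw [rad_eq_left hS.symm' ⟨hi, hiK⟩]
      exact hr _ rad_le_MJ (h₂.sums i ⟨hi, hiK⟩)
  · rw [hv 1 1 1 (mul_one 1).symm, h₁.deg, h₂.deg]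

end

end Cfsg.Agent.H622.Levi
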