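import Mathlib
import Cfsg.Agent.Nodes.CommA
import Cfsg.Agent.AGraded.Coord
import Cfsg.Agent.TitsThree.A2Field
import Cfsg.Agent.AGraded.Hom
import Cfsg.Agent.H135.KTwoB

/-!
Root group data of type `A_m`, `m ≥ 2`, in finite groups: the root groups are coordinatised by a finite field `F` and
there is a homomorphism `SL_{m+1}(F) → Y` with central kernel onto the group generated by the root groups.
-/

set_option autoImplicit false
set_option linter.unusedSectionVars false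

namespace Cfsg.Agent.H622.Levi

open CoxeterSystem Cfsg.Agent.ChevalleyStructure.CoxeterGeom Cfsg.Agent.Tits.Roots
  Cfsg.Agent.Nodes.Reps Cfsg.Agent.Nodes.BNOf Cfsg.Agent.Nodes.RootsA Cfsg.Agent.Nodes.Coroot
  Cfsg.Agent.Nodes.PairOf Cfsg.Agent.Nodes.CommA Cfsg.Agent.AGraded
open Cfsg.Agent.LieRecognition.BNCox (cA)
open Matrix
open scoped commutatorElement

variable {m : ℕ} {W Y : Type*} [Group W] [Group Y] {cs : CoxeterSystem (cA m) W} {A : Fin m → Fin m → ℤ}
  {h : IsCartan (cA m) A} {p : ℕ} {T : Subgroup Y} {n : Fin m → Y} {X : (Fin m → ℤ) → Subgroup Y}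

theorem card_X_le [Finite Y] (R : RGD cs h p T n X) {a b c : Fin (m + 1)} (hab : a ≠ b) (hbc : b ≠ c)
    (hac : a ≠ c) : Nat.card (X (rtA a c)) ≤ Nat.card (X (rtA a b)) := by
  obtain ⟨v, hv⟩ := Subgroup.ne_bot_iff_exists_ne_one.1 (Cfsg.Agent.Nodes.Bruhat.X_ne_bot R (isRoot_rtA cs h hbc))
  have hv1 : (v : Y) ≠ 1 := fun e => hv (Subtype.ext e)
  refine Nat.card_le_card_of_surjective
    (fun k : X (rtA a b) => (⟨⁅(v : Y), (k : Y)⁆, comm_mem' R hab hbc hac k.2 v.2⟩ : X (rtA a c))) ?_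
  rintro ⟨y, hy⟩
  obtain ⟨k, hk, e⟩ := nd R hab hbc hac v.2 hv1 hy
  exact ⟨⟨k, hk⟩, Subtype.ext e⟩

theorem comm_ne [Finite Y] (R : RGD cs h p T n X) {a b c : Fin (m + 1)} (hab : a ≠ b) (hbc : b ≠ c)
    (hac : a ≠ c) {u v : Y} (hu : u ∈ X (rtA a b)) (hv : v ∈ X (rtA b c)) (hu1 : u ≠ 1) (hv1 : v ≠ 1) :
    ⁅u, v⁆ ≠ 1 := by
  intro h0
  have hcard : Nat.card (X (rtA a b)) = Nat.card (X (rtA a c)) :=
    le_antisymm (card_X_le R hac hbc.symm hab) (card_X_le R hab hbc hac)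
  let φ : X (rtA a b) → X (rtA a c) := fun k => ⟨⁅v, (k : Y)⁆, comm_mem' R hab hbc hac k.2 hv⟩
  have hs : Function.Surjective φ := by
    rintro ⟨y, hy⟩
    obtain ⟨k, hk, e⟩ := nd R hab hbc hac hv hv1 hy
    exact ⟨⟨k, hk⟩, Subtype.ext e⟩
  have hi : Function.Injective φ :=
    (Nat.bijective_iff_surjective_and_card φ).2 ⟨hs, hcard⟩ |>.1
  have h1 : φ ⟨u, hu⟩ = φ 1 := by
    apply Subtype.ext
    change ⁅v, u⁆ = ⁅v, (1 : Y)⁆
    rw [commutatorElement_one_right, ← commutatorElement_inv, h0, inv_one]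
  exact hu1 (congrArg Subtype.val (hi h1))

/-- The root groups `X_{ab}` are graded of type `A_m`. -/
theorem graded [Finite Y] (hm : 2 ≤ m) (R : RGD cs h p T n X) :
    Graded (fun a b : Fin (m + 1) => X (rtA a b)) where
  comm i j k l hij hkl hjk hil a ha b hb := by
    by_cases hne : i = k ∧ j = l
    · obtain ⟨rfl, rfl⟩ := hne
      obtain ⟨c, hc1, hc2⟩ : ∃ c : Fin (m + 1), c ≠ i ∧ c ≠ j := by
        have h1 : ({i, j} : Finset (Fin (m + 1))).card < (Finset.univ : Finset (Fin (m + 1))).card := by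
          rw [Finset.card_univ, Fintype.card_fin]
          exact lt_of_le_of_lt Finset.card_le_two (by omega)
        obtain ⟨c, -, hc⟩ := Finset.exists_mem_notMem_of_card_lt_card h1
        simp only [Finset.mem_insert, Finset.mem_singleton, not_or] at hc
        exact ⟨c, hc⟩
      exact comm_self R hij hc1.symm hc2.symm ha hb
    · exact comm_disj R hij hkl hjk hil hne ha hb
  br_mem i j k hij hjk hik a ha b hb := comm_mem R hij hjk hik ha hb
  br_ne i j k hij hjk hik a ha b hb ha1 hb1 := comm_ne R hij hjk hik ha hb ha1 hb1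
  ne_bot i j hij := by
    obtain ⟨v, hv⟩ := Subgroup.ne_bot_iff_exists_ne_one.1
      (Cfsg.Agent.Nodes.Bruhat.X_ne_bot R (isRoot_rtA cs h hij))
    exact ⟨v, v.2, fun e => hv (Subtype.ext e)⟩

theorem refl_of [Finite W] (R : RGD cs h p T n X) : TitsThree.A2Refl.Rgd (fun a b : Fin (m + 1) => X (rtA a b)) := by
  intro i j hij a ha ha1
  obtain ⟨u, hu, v, hv, hmap⟩ := exists_mu R (isRoot_rtA cs h hij.symm) (a := a) (by rwa [rtA_neg]) ha1
  refine ⟨u, hu, v, hv, ?_⟩
  have key : ∀ k l : Fin (m + 1), k ≠ l → ∀ k' l' : Fin (m + 1),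
      rtA k l - cpr cs h (rtA k l) (rtA j i) • rtA j i = rtA k' l' →
      ∀ c ∈ X (rtA k l), u * a * v * c * (u * a * v)⁻¹ ∈ X (rtA k' l') := by
    intro k l hkl k' l' e c hc
    have h1 := hmap _ (isRoot_rtA cs h hkl)
    rw [e] at h1
    rw [← h1]
    exact conj_mem_cj.2 hc
  have hji : j ≠ i := hij.symm
  refine ⟨key i j hij j i ?_, key j i hji i j ?_, fun k hki hkj => key i k hki.symm j k ?_,
    fun k hki hkj => key j k hkj.symm i k ?_, fun k hki hkj => key k i hki k j ?_,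
    fun k hki hkj => key k j hkj k i ?_⟩
  · rw [cpr_rtA cs h i j hji, if_neg hij, if_pos rfl, if_pos rfl, if_neg hji, ← rtA_neg i j]
    module
  · rw [cpr_rtA cs h j i hji, if_neg hij, if_pos rfl, if_pos rfl, if_neg hji, ← rtA_neg i j]
    module
  · rw [cpr_rtA cs h i k hji, if_neg hij, if_pos rfl, if_neg hkj, if_neg hki, ← rtA_add j i k]
    module
  · rw [cpr_rtA cs h j k hji, if_pos rfl, if_neg hji, if_neg hkj, if_neg hki, ← rtA_add i j k, ← rtA_neg i j]
    module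
  · rw [cpr_rtA cs h k i hji, if_neg hkj, if_neg hki, if_neg hij, if_pos rfl, ← rtA_add k i j, ← rtA_neg i j]
    module
  · rw [cpr_rtA cs h k j hji, if_neg hkj, if_neg hki, if_pos rfl, if_neg hji, ← rtA_add k j i]
    module

/-- A homomorphism from `SL n F` from the Steinberg relations (`F` finite). -/
theorem exists_hom_of_stein {F : Type} [Field F] [Finite F] (hm : 2 ≤ m)
    {x : Fin (m + 1) → Fin (m + 1) → F → Y} (hx : SteinRel x) :
    ∃ π : SpecialLinearGroup (Fin (m + 1)) F →* Y,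
      (∀ i j (hij : i ≠ j) a, π (SpecialLinearGroup.transvection hij a) = x i j a) ∧
      π.range = Subgroup.closure (gens x) ∧
      ((∃ i j, i ≠ j ∧ ∃ a, x i j a ≠ 1) → π.ker ≤ Subgroup.center (SpecialLinearGroup (Fin (m + 1)) F)) :=
  exists_hom_core hx (by rw [Fintype.card_fin]; omega)
    fun _ _ hy hygen _ _ hφ _ _ => Cfsg.Agent.H135.KTwo.ker_eq_bot_fin hy hm hygen hφ

theorem finite_Wm (cs : CoxeterSystem (cA m) W) (h : IsCartan (cA m) A) : Finite W := finite_W cs h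

/-- **Coordinates.** -/
theorem exists_stein [Finite Y] (hm : 2 ≤ m) (R : RGD cs h p T n X) :
    ∃ (F : Type) (_ : Field F) (_ : Fintype F) (x : Fin (m + 1) → Fin (m + 1) → F → Y), SteinRel x ∧
      ∀ i j, i ≠ j → (∀ a, x i j a ∈ X (rtA i j)) ∧ ∀ y ∈ X (rtA i j), ∃! a, x i j a = y := by
  rcases Nat.eq_or_lt_of_le hm with rfl | h3
  · have := finite_Wm cs h
    exact TitsThree.A2Field.exists_field (graded hm R) (refl_of R)
  · exact Graded.exists_field (graded hm R) (by rw [Fintype.card_fin]; omega)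

/-- **The homomorphism from `SL_{m+1}(F)`.** -/
theorem exists_sl [Finite Y] (hm : 2 ≤ m) (R : RGD cs h p T n X) :
    ∃ (F : Type) (_ : Field F) (_ : Fintype F) (φ : SpecialLinearGroup (Fin (m + 1)) F →* Y),
      (∀ i j (hij : i ≠ j), (X (rtA i j) : Set Y) =
        Set.range fun a => φ (SpecialLinearGroup.transvection hij a)) ∧
      φ.ker ≤ Subgroup.center (SpecialLinearGroup (Fin (m + 1)) F) := by
  obtain ⟨F, _, _, x, hx, hX⟩ := exists_stein hm R
  obtain ⟨φ, h1, -, h3⟩ := exists_hom_of_stein hm hx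
  refine ⟨F, inferInstance, inferInstance, φ, fun i j hij => ?_, h3 ?_⟩
  · ext y
    constructor
    · intro hy
      obtain ⟨a, ha, -⟩ := (hX i j hij).2 y hy
      exact ⟨a, (h1 i j hij a).trans ha⟩
    · rintro ⟨a, rfl⟩
      change φ _ ∈ X (rtA i j)
      rw [h1 i j hij]
      exact (hX i j hij).1 a
  · have h01 : (⟨0, by omega⟩ : Fin (m + 1)) ≠ ⟨1, by omega⟩ := by
      intro e
      exact absurd (congrArg Fin.val e) (by norm_num)
    obtain ⟨v, hv⟩ := Subgroup.ne_bot_iff_exists_ne_one.1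
      (Cfsg.Agent.Nodes.Bruhat.X_ne_bot R (isRoot_rtA cs h h01))
    obtain ⟨a, ha, -⟩ := (hX _ _ h01).2 v v.2
    exact ⟨_, _, h01, a, by rw [ha]; exact fun e => hv (Subtype.ext e)⟩

end Cfsg.Agent.H622.Levi
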