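import Mathlib

/-!
The block unipotent subgroups `UU i` of `SL_{m+1}(F)` and the block embedding `SL_2(F) → SL_3(F)`.
-/

set_option autoImplicit false

namespace Cfsg.Agent.H622.Levi

open Matrix

variable {m : ℕ} {F : Type*} [Field F]

/-- the block part of a matrix -/
def blkP (i : Fin m) (N : Matrix (Fin (m + 1)) (Fin (m + 1)) F) : Matrix (Fin (m + 1)) (Fin (m + 1)) F :=
  Matrix.of fun r s => if r.val ≤ i.val ∧ i.val < s.val then N r s else 0

theorem blkP_apply (i : Fin m) (N : Matrix (Fin (m + 1)) (Fin (m + 1)) F) (r s : Fin (m + 1)) :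
    blkP i N r s = if r.val ≤ i.val ∧ i.val < s.val then N r s else 0 := rfl

theorem blkP_add (i : Fin m) (N N' : Matrix (Fin (m + 1)) (Fin (m + 1)) F) :
    blkP i (N + N') = blkP i N + blkP i N' := by
  ext r s
  rw [Matrix.add_apply, blkP_apply, blkP_apply, blkP_apply]
  split_ifs
  · rfl
  · rw [add_zero]

theorem blkP_zero (i : Fin m) : blkP i (0 : Matrix (Fin (m + 1)) (Fin (m + 1)) F) = 0 := by
  ext r s
  rw [blkP_apply]
  split_ifs <;> rfl

theorem blkP_mul (i : Fin m) (N N' : Matrix (Fin (m + 1)) (Fin (m + 1)) F) : blkP i N * blkP i N' = 0 := by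
  ext r s
  rw [Matrix.mul_apply]
  refine Finset.sum_eq_zero fun k _ => ?_
  rw [blkP_apply, blkP_apply]
  by_cases h1 : r.val ≤ i.val ∧ i.val < k.val
  · rw [if_neg (c := k.val ≤ i.val ∧ i.val < s.val) (fun h2 => by omega), mul_zero]
  · rw [if_neg h1, zero_mul]

theorem det_blkP (i : Fin m) (N : Matrix (Fin (m + 1)) (Fin (m + 1)) F) : (1 + blkP i N).det = 1 := by
  rw [Matrix.det_of_isUpperTriangular]
  · refine Finset.prod_eq_one fun r _ => ?_
    rw [Matrix.add_apply, blkP_apply, if_neg (fun h => by omega), add_zero, Matrix.one_apply_eq]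
  · intro r s hrs
    have hrs' : s < r := hrs
    rw [Matrix.add_apply, blkP_apply, if_neg (fun h => by have := Fin.lt_def.1 hrs'; omega), add_zero,
      Matrix.one_apply_ne (ne_of_gt hrs')]

/-- `N ↦ 1 + N` on the block matrices -/
def blkE (i : Fin m) : Multiplicative (Matrix (Fin (m + 1)) (Fin (m + 1)) F) →* SpecialLinearGroup (Fin (m + 1)) F where
  toFun N := ⟨1 + blkP i N.toAdd, det_blkP i _⟩
  map_one' := Subtype.ext (by
    change 1 + blkP i 0 = 1
    rw [blkP_zero, add_zero])
  map_mul' N N' := Subtype.ext (by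
    change 1 + blkP i (N.toAdd + N'.toAdd) = (1 + blkP i N.toAdd) * (1 + blkP i N'.toAdd)
    rw [blkP_add, add_mul, one_mul, mul_add, mul_one, blkP_mul, add_zero]
    abel)

theorem coe_blkE (i : Fin m) (N : Multiplicative (Matrix (Fin (m + 1)) (Fin (m + 1)) F)) :
    (blkE i N : Matrix (Fin (m + 1)) (Fin (m + 1)) F) = 1 + blkP i N.toAdd := rfl

/-- the block unipotent subgroup: rows `≤ i`, columns `> i` -/
def UU (F : Type*) [Field F] (i : Fin m) : Subgroup (SpecialLinearGroup (Fin (m + 1)) F) := (blkE i).range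

theorem mem_UU {i : Fin m} {g : SpecialLinearGroup (Fin (m + 1)) F} : g ∈ UU F i ↔
    ∀ r s : Fin (m + 1), ¬ (r.val ≤ i.val ∧ i.val < s.val) → g.1 r s = (1 : Matrix (Fin (m + 1)) (Fin (m + 1)) F) r s := by
  constructor
  · rintro ⟨N, rfl⟩ r s hrs
    rw [coe_blkE, Matrix.add_apply, blkP_apply, if_neg hrs, add_zero]
  · intro hg
    refine ⟨Multiplicative.ofAdd g.1, Subtype.ext ?_⟩
    rw [coe_blkE, toAdd_ofAdd]
    ext r s
    rw [Matrix.add_apply, blkP_apply]
    split_ifs with h
    · rw [Matrix.one_apply_ne (by rintro rfl; omega), zero_add]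
    · rw [hg r s h, add_zero]

theorem transvection_mem_UU {i : Fin m} {r s : Fin (m + 1)} (hrs : r ≠ s) (h : r.val ≤ i.val ∧ i.val < s.val)
    (c : F) : SpecialLinearGroup.transvection hrs c ∈ UU F i := by
  rw [mem_UU]
  intro r' s' h'
  change (Matrix.transvection r s c) r' s' = _
  rw [Matrix.transvection, Matrix.add_apply, Matrix.single_apply, if_neg, add_zero]
  rintro ⟨rfl, rfl⟩
  exact h' h

/-- the block unipotent subgroup is generated by transvections -/
theorem UU_le {i : Fin m} {K : Subgroup (SpecialLinearGroup (Fin (m + 1)) F)}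
    (hK : ∀ (r s : Fin (m + 1)) (hrs : r ≠ s), r.val ≤ i.val → i.val < s.val → ∀ c : F,
      SpecialLinearGroup.transvection hrs c ∈ K) : UU F i ≤ K := by
  rintro _ ⟨N, rfl⟩
  obtain ⟨N, rfl⟩ := Multiplicative.ofAdd.surjective N
  induction N using Matrix.induction_on' with
  | h_zero =>
    have : (Multiplicative.ofAdd (0 : Matrix (Fin (m + 1)) (Fin (m + 1)) F)) = 1 := rfl
    rw [this, map_one]
    exact one_mem _
  | h_add N N' h1 h2 =>
    rw [ofAdd_add, map_mul]
    exact mul_mem h1 h2
  | h_std_basis r s c =>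
    by_cases h : r.val ≤ i.val ∧ i.val < s.val
    · have hrs : r ≠ s := by rintro rfl; omega
      have e : blkE i (Multiplicative.ofAdd (Matrix.single r s c)) = SpecialLinearGroup.transvection hrs c := by
        apply Subtype.ext
        rw [coe_blkE, toAdd_ofAdd]
        change _ = 1 + Matrix.single r s c
        congr 1
        ext r' s'
        rw [blkP_apply, Matrix.single_apply]
        split_ifs with h1 h2 h2
        · rfl
        · rfl
        · exact absurd (h2.1 ▸ h2.2 ▸ h) h1
        · rfl
      rw [e]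
      exact hK r s hrs h.1 h.2 c
    · have e : blkE i (Multiplicative.ofAdd (Matrix.single r s c)) = 1 := by
        apply Subtype.ext
        rw [coe_blkE, toAdd_ofAdd]
        change _ = (1 : Matrix _ _ F)
        have : blkP i (Matrix.single r s c) = 0 := by
          ext r' s'
          rw [blkP_apply, Matrix.single_apply]
          split_ifs with h1 h2
          · exact absurd (h2.1.symm ▸ h2.2.symm ▸ h1) h
          · rfl
          · rfl
        rw [this, add_zero]
      rw [e]
      exact one_mem _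

/-! ### the block embedding -/

/-- the block embedding of `SL_2` in `SL_3` -/
def emb : SpecialLinearGroup (Fin 2) F →* SpecialLinearGroup (Fin 3) F where
  toFun g := ⟨!![g.1 0 0, g.1 0 1, 0; g.1 1 0, g.1 1 1, 0; 0, 0, 1], by
    have h1 := g.2
    rw [Matrix.det_fin_two] at h1
    rw [Matrix.det_fin_three]
    simp
    linear_combination h1⟩
  map_one' := Subtype.ext (by
    ext i j
    fin_cases i <;> fin_cases j <;> simp)
  map_mul' g k := Subtype.ext (by
    change !![(g.1 * k.1) 0 0, (g.1 * k.1) 0 1, 0; (g.1 * k.1) 1 0, (g.1 * k.1) 1 1, 0; 0, 0, 1] =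
      !![g.1 0 0, g.1 0 1, 0; g.1 1 0, g.1 1 1, 0; 0, 0, 1] * !![k.1 0 0, k.1 0 1, 0; k.1 1 0, k.1 1 1, 0; 0, 0, 1]
    ext i j
    fin_cases i <;> fin_cases j <;>
      simp [Matrix.mul_apply, Fin.sum_univ_two, Fin.sum_univ_three])

theorem coe_emb (g : SpecialLinearGroup (Fin 2) F) :
    (emb g : Matrix (Fin 3) (Fin 3) F) = !![g.1 0 0, g.1 0 1, 0; g.1 1 0, g.1 1 1, 0; 0, 0, 1] := rfl

theorem emb_transvection {a b : Fin 2} (hab : a ≠ b) (hab' : a.castSucc ≠ b.castSucc) (c : F) :
    emb (SpecialLinearGroup.transvection hab c) = SpecialLinearGroup.transvection hab' c := by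
  apply Subtype.ext
  rw [coe_emb]
  change _ = Matrix.transvection a.castSucc b.castSucc c
  have e : (SpecialLinearGroup.transvection hab c).1 = Matrix.transvection a b c := rfl
  rw [e]
  unfold Matrix.transvection
  fin_cases a <;> fin_cases b
  · exact absurd rfl hab
  · ext i j
    fin_cases i <;> fin_cases j <;> simp [Matrix.single_apply]
  · ext i j
    fin_cases i <;> fin_cases j <;> simp [Matrix.single_apply]
  · exact absurd rfl hab

theorem emb_injective : Function.Injective (emb (F := F)) := by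
  intro g k hgk
  have h1 := congrArg Subtype.val hgk
  rw [coe_emb, coe_emb] at h1
  apply Subtype.ext
  ext i j
  have h2 := congrFun (congrFun h1 i.castSucc) j.castSucc
  fin_cases i <;> fin_cases j <;> simpa using h2

theorem emb_mem_center {g : SpecialLinearGroup (Fin 2) F}
    (hg : emb g ∈ Subgroup.center (SpecialLinearGroup (Fin 3) F)) : g = 1 := by
  rw [Matrix.SpecialLinearGroup.mem_center_iff] at hg
  obtain ⟨r, -, hr⟩ := hg
  rw [coe_emb] at hr
  have h1 : r = 1 := by
    have := congrFun (congrFun hr 2) 2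
    simpa using this
  apply emb_injective
  rw [map_one]
  apply Subtype.ext
  rw [coe_emb, ← hr, h1]
  simp

end Cfsg.Agent.H622.Levi
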