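import Mathlib
import Cfsg.Agent.H622.Levi.TypeA
import Cfsg.Agent.H622.Levi.Orth
import Cfsg.Agent.H622.Levi.UU

/-!
Levi subgroups of type `A_m` of root group data.

`Co cs h X k F φ` : `φ : SL_{m+1}(F) → Y` coordinatises the root groups of the chain `k`, with central kernel;
`exists_co` : chains of length at least two; `exists_co_one` : a node of a chain of length two;
`Co.range`, `Co.map_UU` : `MJ` and `rad`.
-/

set_option autoImplicit false
set_option linter.unusedSectionVars false

namespace Cfsg.Agent.H622.Levi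

open CoxeterSystem Cfsg.Agent.ChevalleyStructure.CoxeterGeom Cfsg.Agent.Tits.Roots Cfsg.Agent.Tits.Core
  Cfsg.Agent.Nodes.Reps Cfsg.Agent.Nodes.BNOf Cfsg.Agent.Nodes.StabComb Cfsg.Agent.Nodes.RootsA
  Cfsg.Agent.Nodes.SubComb Cfsg.Agent.Nodes.Sub Cfsg.Agent.Nodes.LeviStd
open Cfsg.Agent.LieRecognition.BNCox (cA)
open Matrix

variable {I W Y : Type*} [Fintype I] [DecidableEq I] [Group W] [Group Y] {M : CoxeterMatrix I}

/-- the root of the chain `k` with indices `a`, `b` -/
def cr {m : ℕ} (k : Fin m → I) (a b : Fin (m + 1)) : I → ℤ := iota (fun j => sr (k j)) (rtA a b)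

theorem cr_neg {m : ℕ} (k : Fin m → I) (a b : Fin (m + 1)) : -cr k a b = cr k b a := by
  unfold cr
  rw [← map_neg, rtA_neg]

theorem cr_succ {m : ℕ} (k : Fin m → I) (i : Fin m) : cr k i.castSucc i.succ = sr (k i) := by
  unfold cr
  rw [rtA_sr, iota_sr]

/-- coordinates for the chain `k` -/
structure Co (X : (I → ℤ) → Subgroup Y) {m : ℕ} (k : Fin m → I) (F : Type) [Field F]
    (φ : SpecialLinearGroup (Fin (m + 1)) F →* Y) : Prop where
  root : ∀ a b (hab : a ≠ b), (X (cr k a b) : Set Y) = Set.range fun t => φ (SpecialLinearGroup.transvection hab t)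
  ker : φ.ker ≤ Subgroup.center (SpecialLinearGroup (Fin (m + 1)) F)

variable {cs : CoxeterSystem M W} {A : I → I → ℤ} {h : IsCartan M A} {p : ℕ} {T : Subgroup Y} {n : I → Y}
  {X : (I → ℤ) → Subgroup Y}

theorem rgd_levi_of {J W' : Type*} [Fintype J] [DecidableEq J] [Group W'] {M' : CoxeterMatrix J} [Finite W]
    (R : RGD cs h p T n X) (k : J ↪ I) (hk : ∀ i j, M (k i) (k j) = M' i j) (cs' : CoxeterSystem M' W') :
    ∃ h' : IsCartan M' (fun i j => A (k i) (k j)),
      RGD cs' h' p T (fun j => n (k j)) (fun c => X (iota (fun j => sr (k j)) c)) := by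
  obtain rfl : leviMatrix k M = M' := leviMatrix_eq k hk
  exact ⟨_, rgd_levi R k cs'⟩

/-- **Chains of length at least two.** -/
theorem exists_co [Finite W] [Finite Y] (R : RGD cs h p T n X) {m : ℕ} (hm : 2 ≤ m) (k : Fin m ↪ I)
    (hk : ∀ i j, M (k i) (k j) = cA m i j) :
    ∃ (F : Type) (_ : Field F) (_ : Fintype F) (φ : SpecialLinearGroup (Fin (m + 1)) F →* Y), Co X k F φ := by
  obtain ⟨h', R'⟩ := rgd_levi_of R k hk (cA m).toCoxeterSystem
  obtain ⟨F, _, _, φ, h1, h2⟩ := exists_sl hm R'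
  exact ⟨F, inferInstance, inferInstance, φ, ⟨h1, h2⟩⟩

/-- the first node of a chain of length two -/
theorem Co.one {k : Fin 2 → I} {F : Type} [Field F] {φ : SpecialLinearGroup (Fin 3) F →* Y} (C : Co X k F φ)
    (k' : Fin 1 → I) (hk' : k' 0 = k 0) : Co X k' F (φ.comp emb) := by
  have hcr : ∀ a b : Fin 2, cr k' a b = cr k a.castSucc b.castSucc := by
    have h1 : ∀ j : Fin 1, k' j = k 0 := fun j => by rw [Subsingleton.elim j 0, hk']
    intro a b
    unfold cr
    rw [iota_apply, iota_apply, Fin.sum_univ_two]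
    simp only [h1, Finset.univ_unique, Fin.default_eq_zero, Finset.sum_singleton]
    have e1 : rtA a.castSucc b.castSucc 1 = (0 : ℤ) := by
      rw [rtA_apply, if_pos (by have := a.2; rw [Fin.val_castSucc]; change a.val ≤ 1; omega),
        if_pos (by have := b.2; rw [Fin.val_castSucc]; change b.val ≤ 1; omega)]
      rfl
    have e0 : rtA a.castSucc b.castSucc 0 = rtA (n := 1) a b 0 := by
      rw [rtA_apply, rtA_apply]
      rfl
    rw [e1, e0, zero_smul, add_zero]
  refine ⟨fun a b hab => ?_, ?_⟩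
  · have hab' : a.castSucc ≠ b.castSucc := fun e => hab (Fin.castSucc_injective _ e)
    rw [hcr, C.root _ _ hab']
    congr 1
    funext t
    rw [MonoidHom.comp_apply, emb_transvection hab hab']
  · intro g hg
    have h1 : emb g ∈ φ.ker := hg
    rw [emb_mem_center (C.ker h1)]
    exact one_mem _

/-- **A node joined to another node by a simple bond.** -/
theorem exists_co_one [Finite W] [Finite Y] (R : RGD cs h p T n X) (i j : I) (hij : M i j = 3) :
    ∃ (F : Type) (_ : Field F) (_ : Fintype F) (φ : SpecialLinearGroup (Fin 2) F →* Y),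
      Co X (fun _ : Fin 1 => i) F φ := by
  have hne : i ≠ j := by
    rintro rfl
    rw [M.diagonal] at hij
    omega
  let k : Fin 2 ↪ I := ⟨![i, j], by
    intro a b hab
    fin_cases a <;> fin_cases b
    · rfl
    · exact absurd hab hne
    · exact absurd hab hne.symm
    · rfl⟩
  obtain ⟨F, i1, i2, φ, C⟩ := exists_co R le_rfl k (by
    intro a b
    fin_cases a <;> fin_cases b
    · change M i i = _
      rw [M.diagonal]; rfl
    · change M i j = _
      rw [hij]; rfl
    · change M j i = _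
      rw [M.symmetric, hij]; rfl
    · change M j j = _
      rw [M.diagonal]; rfl)
  exact ⟨F, i1, i2, _, C.one _ rfl⟩

/-! ### the groups -/

section

variable {m : ℕ} {k : Fin m ↪ I} {F : Type} [Field F] {φ : SpecialLinearGroup (Fin (m + 1)) F →* Y}
  (C : Co X k F φ)
include C

theorem Co.transvection_mem {a b : Fin (m + 1)} (hab : a ≠ b) (t : F) :
    φ (SpecialLinearGroup.transvection hab t) ∈ X (cr k a b) := by
  have : φ (SpecialLinearGroup.transvection hab t) ∈ (X (cr k a b) : Set Y) := by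
    rw [C.root a b hab]; exact ⟨t, rfl⟩
  exact this

variable [Finite W] (hk : ∀ i j, M (k i) (k j) = cA m i j)
include hk

omit C in
theorem mem_rootsJ {x : I → ℤ} : x ∈ RootsJ cs h (Set.range k) ↔ ∃ a b : Fin (m + 1), a ≠ b ∧ x = cr k a b := by
  have h' : ∃ h' : IsCartan (cA m) (fun i j => A (k i) (k j)), True := by
    obtain hM : leviMatrix k M = cA m := leviMatrix_eq k hk
    have := levi_isCartan k h
    rw [hM] at this
    exact ⟨this, trivial⟩
  obtain ⟨h', -⟩ := h'
  rw [mem_RootsJ_range_iff' k hk (fun _ _ => rfl) (cA m).toCoxeterSystem h']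
  constructor
  · rintro ⟨c, hc, rfl⟩
    obtain ⟨a, b, hab, rfl⟩ := exists_of_isRoot _ _ hc
    exact ⟨a, b, hab, rfl⟩
  · rintro ⟨a, b, hab, rfl⟩
    exact ⟨_, isRoot_rtA _ _ hab, rfl⟩

theorem Co.range (hm : 0 < m) : φ.range = MJ cs h X (Set.range k) := by
  have : Nontrivial (Fin (m + 1)) := Fin.nontrivial_iff_two_le.2 (by omega)
  apply le_antisymm
  · rintro _ ⟨g, rfl⟩
    refine Cfsg.Agent.LieClassical.SLGen.transvection_induction (fun g => φ g ∈ MJ cs h X (Set.range k)) ?_ ?_ g
    · intro a b hab t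
      exact RGD.le_Sup ((mem_rootsJ (cs := cs) (h := h) hk).2 ⟨a, b, hab, rfl⟩) (C.transvection_mem hab t)
    · intro g g' h1 h2
      rw [map_mul]
      exact mul_mem h1 h2
  · refine RGD.Sup_le fun x hx => ?_
    obtain ⟨a, b, hab, rfl⟩ := (mem_rootsJ hk).1 hx
    intro y hy
    have h1 : y ∈ (X (cr k a b) : Set Y) := hy
    rw [C.root a b hab] at h1
    obtain ⟨t, rfl⟩ := h1
    exact ⟨_, rfl⟩

/-- **The unipotent radicals.** -/
theorem Co.map_UU (i : Fin m) : (UU F i).map φ = rad cs h X (Set.range k) (k i) := by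
  apply le_antisymm
  · rw [Subgroup.map_le_iff_le_comap]
    refine UU_le fun r s hrs hr hs t => ?_
    rw [Subgroup.mem_comap]
    refine RGD.le_Sup (z := cr k r s) ?_ (C.transvection_mem hrs t)
    have h1 := (mem_rootsJ (cs := cs) (h := h) hk).2 ⟨r, s, hrs, rfl⟩
    refine ⟨⟨h1.1, ?_, h1.2⟩, ?_⟩
    · intro j
      rw [Pi.zero_apply]
      by_cases hj : ∃ j', k j' = j
      · obtain ⟨j', rfl⟩ := hj
        unfold cr
        rw [iota_levi_apply, rtA_apply]
        have h2 : (0 : ℤ) ≤ (if r.val ≤ j'.val then 1 else 0) - (if s.val ≤ j'.val then 1 else 0) := by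
          split_ifs <;> omega
        exact h2
      · rw [h1.2 j fun ⟨j', e⟩ => hj ⟨j', e⟩]
    · unfold cr
      rw [iota_levi_apply, rtA_apply, if_pos hr, if_neg (by omega)]
      omega
  · refine RGD.Sup_le fun x hx => ?_
    obtain ⟨hx, hpos⟩ := hx
    obtain ⟨a, b, hab, rfl⟩ := (mem_rootsJ (cs := cs) (h := h) hk).1 (PosJ_subset _ hx)
    unfold cr at hpos
    rw [iota_levi_apply, rtA_apply] at hpos
    have h1 : a.val ≤ i.val ∧ i.val < b.val := by
      split_ifs at hpos <;> omega
    intro y hy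
    have h2 : y ∈ (X (cr k a b) : Set Y) := hy
    rw [C.root a b hab] at h2
    obtain ⟨t, rfl⟩ := h2
    exact ⟨_, transvection_mem_UU hab h1 t, rfl⟩

end

end Cfsg.Agent.H622.Levi
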