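import Mathlib
import Cfsg.Agent.TitsThree.KSideA
import Cfsg.Agent.LieClassical.SLGen

/-!
Automorphisms of images of `SL_3(F)` which permute the root groups are induced by semilinear maps, or by semilinear maps
and the inverse transpose.

* `swapHom C τ : x ↦ C (τ x)^{-T} C⁻¹`, `dirHom C τ : x ↦ C (τ x) C⁻¹`;
* `exists_swap`, `exists_dir`.
-/

set_option autoImplicit false
set_option linter.unusedSectionVars false

namespace Cfsg.Agent.H622.Levi

open Matrix
open Cfsg.Agent.TitsThree.KSideA (tv tv_of_ne tv_add tv_zero tv_neg tv_comm)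
open scoped commutatorElement

section ring

variable {F : Type*} [Field F] [Finite F]

theorem exists_ringEquiv {f : Fin 3 → Fin 3 → F → F}
    (hadd : ∀ a b, a ≠ b → ∀ s t, f a b (s + t) = f a b s + f a b t)
    (hmul : ∀ a b c, a ≠ b → b ≠ c → a ≠ c → ∀ s t, f a c (s * t) = f a b s * f b c t)
    (hne : ∀ a b, a ≠ b → f a b 1 ≠ 0) :
    ∃ (τ : F ≃+* F) (d : Fin 3 → F), (∀ a, d a ≠ 0) ∧ ∀ a b, a ≠ b → ∀ t, f a b t = d a * τ t * (d b)⁻¹ := by
  have h01 : (0 : Fin 3) ≠ 1 := by decide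
  have h02 : (0 : Fin 3) ≠ 2 := by decide
  have h12 : (1 : Fin 3) ≠ 2 := by decide
  have c01 := hne 0 1 h01
  have c12 := hne 1 2 h12
  have e02 : ∀ s, f 0 2 s = f 0 1 s * f 1 2 1 := fun s => by
    rw [← hmul 0 1 2 h01 h12 h02 s 1, mul_one]
  have e12 : ∀ t, f 1 2 t = f 0 1 t * (f 0 1 1)⁻¹ * f 1 2 1 := fun t => by
    have h1 := hmul 0 1 2 h01 h12 h02 1 t
    rw [one_mul, e02] at h1
    field_simp
    rw [h1]; ring
  have e10 : ∀ s, f 1 0 s = f 0 1 s * (f 0 1 1)⁻¹ * (f 0 1 1)⁻¹ := fun s => by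
    have h1 := hmul 1 0 2 h01.symm h02 h12 s 1
    rw [mul_one, e12, e02] at h1
    have h2 : f 0 1 s * (f 0 1 1)⁻¹ = f 1 0 s * f 0 1 1 := by
      apply mul_right_cancel₀ c12
      rw [h1]; ring
    rw [h2]
    field_simp
  have e21 : ∀ t, f 2 1 t = f 0 1 t * (f 0 1 1)⁻¹ * (f 1 2 1)⁻¹ := fun t => by
    have h1 := hmul 0 2 1 h02 h12.symm h01 1 t
    rw [one_mul, e02] at h1
    rw [h1]
    field_simp
  have e20 : ∀ s, f 2 0 s = f 0 1 s * (f 0 1 1)⁻¹ * (f 1 2 1)⁻¹ * (f 0 1 1)⁻¹ := fun s => by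
    have h1 := hmul 2 0 1 h02.symm h01 h12.symm s 1
    rw [mul_one, e21] at h1
    rw [h1]
    field_simp
  let τ₀ : F →+* F :=
    { toFun := fun s => f 0 1 s * (f 0 1 1)⁻¹
      map_one' := mul_inv_cancel₀ c01
      map_zero' := by
        have h1 := hadd 0 1 h01 0 0
        rw [add_zero] at h1
        have h2 : f 0 1 0 = 0 := by
          have : f 0 1 0 + 0 = f 0 1 0 + f 0 1 0 := by rw [add_zero]; exact h1
          exact (add_left_cancel this).symm
        rw [h2, zero_mul]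
      map_add' := fun s t => by rw [hadd 0 1 h01, add_mul]
      map_mul' := fun s t => by
        have h1 := hmul 0 1 2 h01 h12 h02 s t
        rw [e02 (s * t), e12 t] at h1
        have h2 : f 0 1 (s * t) = f 0 1 s * (f 0 1 t * (f 0 1 1)⁻¹) := by
          apply mul_right_cancel₀ c12
          rw [h1]; ring
        rw [h2]; ring }
  have hbij : Function.Bijective τ₀ := Finite.injective_iff_bijective.1 τ₀.injective
  let τ : F ≃+* F := RingEquiv.ofBijective τ₀ hbij
  have hτ : ∀ s, τ s = f 0 1 s * (f 0 1 1)⁻¹ := fun s => rfl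
  refine ⟨τ, ![f 0 1 1, 1, (f 1 2 1)⁻¹], ?_, ?_⟩
  · intro a
    fin_cases a
    · exact c01
    · exact one_ne_zero
    · exact inv_ne_zero c12
  · intro a b hab t
    rw [hτ]
    fin_cases a <;> fin_cases b
    · exact absurd rfl hab
    · change f 0 1 t = f 0 1 1 * (f 0 1 t * (f 0 1 1)⁻¹) * (1 : F)⁻¹
      field_simp
    · change f 0 2 t = f 0 1 1 * (f 0 1 t * (f 0 1 1)⁻¹) * ((f 1 2 1)⁻¹)⁻¹
      rw [e02]; field_simp
    · change f 1 0 t = 1 * (f 0 1 t * (f 0 1 1)⁻¹) * (f 0 1 1)⁻¹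
      rw [e10]; field_simp
    · exact absurd rfl hab
    · change f 1 2 t = 1 * (f 0 1 t * (f 0 1 1)⁻¹) * ((f 1 2 1)⁻¹)⁻¹
      rw [e12]; field_simp
    · change f 2 0 t = (f 1 2 1)⁻¹ * (f 0 1 t * (f 0 1 1)⁻¹) * (f 0 1 1)⁻¹
      rw [e20]; field_simp
    · change f 2 1 t = (f 1 2 1)⁻¹ * (f 0 1 t * (f 0 1 1)⁻¹) * (1 : F)⁻¹
      rw [e21]; field_simp
    · exact absurd rfl hab

end ring

section homs

variable {ι F : Type*} [Fintype ι] [DecidableEq ι] [Field F]

/-- `x ↦ C (τ x)^{-T} C⁻¹` -/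
def swapHom (C : GL ι F) (τ : F ≃+* F) : Matrix.SpecialLinearGroup ι F →* Matrix.SpecialLinearGroup ι F where
  toFun x := ⟨(C : Matrix ι ι F) * (((x⁻¹ : Matrix.SpecialLinearGroup ι F) : Matrix ι ι F).map τ).transpose *
      ((C⁻¹ : GL ι F) : Matrix ι ι F), by
    have h1 : (C : Matrix ι ι F) * ((C⁻¹ : GL ι F) : Matrix ι ι F) = 1 := by
      rw [← Units.val_mul, mul_inv_cancel, Units.val_one]
    have h2 := congrArg Matrix.det h1
    rw [Matrix.det_mul, Matrix.det_one] at h2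
    have h3 : (((x⁻¹ : Matrix.SpecialLinearGroup ι F) : Matrix ι ι F).map τ).det = 1 := by
      have := RingHom.map_det (τ : F →+* F) ((x⁻¹ : Matrix.SpecialLinearGroup ι F) : Matrix ι ι F)
      rw [(x⁻¹).2, map_one] at this
      exact this.symm
    rw [Matrix.det_mul, Matrix.det_mul, Matrix.det_transpose, h3, mul_one, h2]⟩
  map_one' := by
    apply Subtype.ext
    change (C : Matrix ι ι F) * (((1⁻¹ : Matrix.SpecialLinearGroup ι F) : Matrix ι ι F).map τ).transpose *
      ((C⁻¹ : GL ι F) : Matrix ι ι F) = 1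
    rw [inv_one]
    change (C : Matrix ι ι F) * ((1 : Matrix ι ι F).map τ).transpose * ((C⁻¹ : GL ι F) : Matrix ι ι F) = 1
    rw [Matrix.map_one τ (map_zero τ) (map_one τ), Matrix.transpose_one, Matrix.mul_one, ← Units.val_mul,
      mul_inv_cancel, Units.val_one]
  map_mul' x y := by
    apply Subtype.ext
    change (C : Matrix ι ι F) * ((((x * y)⁻¹ : Matrix.SpecialLinearGroup ι F) : Matrix ι ι F).map τ).transpose *
        ((C⁻¹ : GL ι F) : Matrix ι ι F) =
      ((C : Matrix ι ι F) * (((x⁻¹ : Matrix.SpecialLinearGroup ι F) : Matrix ι ι F).map τ).transpose *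
        ((C⁻¹ : GL ι F) : Matrix ι ι F)) *
      ((C : Matrix ι ι F) * (((y⁻¹ : Matrix.SpecialLinearGroup ι F) : Matrix ι ι F).map τ).transpose *
        ((C⁻¹ : GL ι F) : Matrix ι ι F))
    have h1 : ((C⁻¹ : GL ι F) : Matrix ι ι F) * (C : Matrix ι ι F) = 1 := by
      rw [← Units.val_mul, inv_mul_cancel, Units.val_one]
    have h2 : (((x * y)⁻¹ : Matrix.SpecialLinearGroup ι F) : Matrix ι ι F).map τ =
        ((y⁻¹ : Matrix.SpecialLinearGroup ι F) : Matrix ι ι F).map τ *
          ((x⁻¹ : Matrix.SpecialLinearGroup ι F) : Matrix ι ι F).map τ := by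
      rw [_root_.mul_inv_rev, Matrix.SpecialLinearGroup.coe_mul]
      exact Matrix.map_mul (f := (τ : F →+* F))
    rw [h2, Matrix.transpose_mul]
    simp only [Matrix.mul_assoc]
    rw [← Matrix.mul_assoc ((C⁻¹ : GL ι F) : Matrix ι ι F) (C : Matrix ι ι F), h1, Matrix.one_mul]

theorem coe_swapHom (C : GL ι F) (τ : F ≃+* F) (x : Matrix.SpecialLinearGroup ι F) :
    (swapHom C τ x).1 =
      (C : Matrix ι ι F) * (((x⁻¹ : Matrix.SpecialLinearGroup ι F) : Matrix ι ι F).map τ).transpose *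
      ((C⁻¹ : GL ι F) : Matrix ι ι F) := rfl

/-- `x ↦ C (τ x) C⁻¹` -/
def dirHom (C : GL ι F) (τ : F ≃+* F) : Matrix.SpecialLinearGroup ι F →* Matrix.SpecialLinearGroup ι F where
  toFun x := ⟨(C : Matrix ι ι F) * ((x : Matrix ι ι F).map τ) * ((C⁻¹ : GL ι F) : Matrix ι ι F), by
    have h1 : (C : Matrix ι ι F) * ((C⁻¹ : GL ι F) : Matrix ι ι F) = 1 := by
      rw [← Units.val_mul, mul_inv_cancel, Units.val_one]
    have h2 := congrArg Matrix.det h1
    rw [Matrix.det_mul, Matrix.det_one] at h2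
    have h3 : ((x : Matrix ι ι F).map τ).det = 1 := by
      have := RingHom.map_det (τ : F →+* F) (x : Matrix ι ι F)
      rw [x.2, map_one] at this
      exact this.symm
    rw [Matrix.det_mul, Matrix.det_mul, h3, mul_one, h2]⟩
  map_one' := by
    apply Subtype.ext
    change (C : Matrix ι ι F) * ((1 : Matrix ι ι F).map τ) * ((C⁻¹ : GL ι F) : Matrix ι ι F) = 1
    rw [Matrix.map_one τ (map_zero τ) (map_one τ), Matrix.mul_one, ← Units.val_mul,
      mul_inv_cancel, Units.val_one]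
  map_mul' x y := by
    apply Subtype.ext
    change (C : Matrix ι ι F) * (((x * y : Matrix.SpecialLinearGroup ι F) : Matrix ι ι F).map τ) *
        ((C⁻¹ : GL ι F) : Matrix ι ι F) =
      ((C : Matrix ι ι F) * ((x : Matrix ι ι F).map τ) * ((C⁻¹ : GL ι F) : Matrix ι ι F)) *
      ((C : Matrix ι ι F) * ((y : Matrix ι ι F).map τ) * ((C⁻¹ : GL ι F) : Matrix ι ι F))
    have h1 : ((C⁻¹ : GL ι F) : Matrix ι ι F) * (C : Matrix ι ι F) = 1 := by
      rw [← Units.val_mul, inv_mul_cancel, Units.val_one]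
    have h2 : ((x * y : Matrix.SpecialLinearGroup ι F) : Matrix ι ι F).map τ =
        (x : Matrix ι ι F).map τ * (y : Matrix ι ι F).map τ := by
      rw [Matrix.SpecialLinearGroup.coe_mul]
      exact Matrix.map_mul (f := (τ : F →+* F))
    rw [h2]
    simp only [Matrix.mul_assoc]
    rw [← Matrix.mul_assoc ((C⁻¹ : GL ι F) : Matrix ι ι F) (C : Matrix ι ι F), h1, Matrix.one_mul]

theorem coe_dirHom (C : GL ι F) (τ : F ≃+* F) (x : Matrix.SpecialLinearGroup ι F) :
    (dirHom C τ x).1 =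
      (C : Matrix ι ι F) * ((x : Matrix ι ι F).map τ) * ((C⁻¹ : GL ι F) : Matrix ι ι F) := rfl

end homs

section three

variable {F : Type*} [Field F]

/-- the monomial matrix of the swap -/
def swapC (d : Fin 3 → F) (hd : ∀ a, d a ≠ 0) : GL (Fin 3) F where
  val := !![0, 0, (d 2)⁻¹; 0, (d 1)⁻¹, 0; (d 0)⁻¹, 0, 0]
  inv := !![0, 0, d 0; 0, d 1, 0; d 2, 0, 0]
  val_inv := by
    ext i j
    fin_cases i <;> fin_cases j <;> simp [Matrix.mul_apply, Fin.sum_univ_three, hd]
  inv_val := by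
    ext i j
    fin_cases i <;> fin_cases j <;> simp [Matrix.mul_apply, Fin.sum_univ_three, hd]

/-- the diagonal matrix -/
def dirC (d : Fin 3 → F) (hd : ∀ a, d a ≠ 0) : GL (Fin 3) F where
  val := !![d 0, 0, 0; 0, d 1, 0; 0, 0, d 2]
  inv := !![(d 0)⁻¹, 0, 0; 0, (d 1)⁻¹, 0; 0, 0, (d 2)⁻¹]
  val_inv := by
    ext i j
    fin_cases i <;> fin_cases j <;> simp [Matrix.mul_apply, Fin.sum_univ_three, hd]
  inv_val := by
    ext i j
    fin_cases i <;> fin_cases j <;> simp [Matrix.mul_apply, Fin.sum_univ_three, hd]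

theorem val_tv {a b : Fin 3} (hab : a ≠ b) (s : F) : (tv a b s : Matrix.SpecialLinearGroup (Fin 3) F).1 =
    1 + Matrix.single a b s := by
  rw [tv_of_ne hab]
  rfl

theorem map_tv {a b : Fin 3} (hab : a ≠ b) (s : F) (τ : F ≃+* F) :
    ((tv a b s : Matrix.SpecialLinearGroup (Fin 3) F).1).map τ = 1 + Matrix.single a b (τ s) := by
  rw [val_tv hab]
  ext i j
  simp only [Matrix.map_apply, Matrix.add_apply, map_add, Matrix.one_apply, Matrix.single_apply, apply_ite τ, map_one,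
    map_zero]

theorem swapHom_tv (d : Fin 3 → F) (hd : ∀ a, d a ≠ 0) (τ : F ≃+* F) {a b : Fin 3} (hab : a ≠ b) (s : F) :
    swapHom (swapC d hd) τ (tv a b s) = tv (Fin.rev b) (Fin.rev a) (-(d a * τ s * (d b)⁻¹)) := by
  have hab' : Fin.rev b ≠ Fin.rev a := fun h => hab (Fin.rev_injective h).symm
  apply Subtype.ext
  rw [coe_swapHom, ← tv_neg, val_tv hab']
  change !![0, 0, (d 2)⁻¹; 0, (d 1)⁻¹, 0; (d 0)⁻¹, 0, 0] * (((tv a b (-s) : Matrix.SpecialLinearGroup (Fin 3) F).1).map τ).transpose *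
    !![0, 0, d 0; 0, d 1, 0; d 2, 0, 0] = _
  rw [map_tv hab, map_neg]
  have h0 := hd 0
  have h1 := hd 1
  have h2 := hd 2
  fin_cases a <;> fin_cases b
  all_goals first
    | exact absurd rfl hab
    | (ext i j
       fin_cases i <;> fin_cases j <;>
        simp [Matrix.mul_apply, Matrix.vecMul, dotProduct, Fin.sum_univ_three, Matrix.single_apply, Matrix.one_apply, h0, h1, h2, Fin.rev] <;>
        (try ring1))

theorem dirHom_tv (d : Fin 3 → F) (hd : ∀ a, d a ≠ 0) (τ : F ≃+* F) {a b : Fin 3} (hab : a ≠ b) (s : F) :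
    dirHom (dirC d hd) τ (tv a b s) = tv a b (d a * τ s * (d b)⁻¹) := by
  apply Subtype.ext
  rw [coe_dirHom, map_tv hab, val_tv hab]
  change !![d 0, 0, 0; 0, d 1, 0; 0, 0, d 2] * (1 + Matrix.single a b (τ s)) *
    !![(d 0)⁻¹, 0, 0; 0, (d 1)⁻¹, 0; 0, 0, (d 2)⁻¹] = _
  have h0 := hd 0
  have h1 := hd 1
  have h2 := hd 2
  fin_cases a <;> fin_cases b
  all_goals first
    | exact absurd rfl hab
    | (ext i j
       fin_cases i <;> fin_cases j <;>
        simp [Matrix.mul_apply, Matrix.vecMul, dotProduct, Fin.sum_univ_three, Matrix.single_apply, Matrix.one_apply, h0, h1, h2])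

/-! ### the automorphisms -/

variable [Finite F] {Y : Type*} [Group Y] {φ : Matrix.SpecialLinearGroup (Fin 3) F →* Y}

theorem hom_ext_tv {α β : Matrix.SpecialLinearGroup (Fin 3) F →* Y}
    (h : ∀ a b : Fin 3, a ≠ b → ∀ s : F, α (tv a b s) = β (tv a b s)) : α = β := by
  ext x
  refine Cfsg.Agent.LieClassical.SLGen.transvection_induction (fun x => α x = β x) ?_ ?_ x
  · intro a b hab s
    have := h a b hab s
    rwa [tv_of_ne hab] at this
  · intro x y hx hy
    rw [map_mul, map_mul, hx, hy]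

/-- **Elements which interchange the root groups.** -/
theorem exists_swap (hinj : ∀ a b : Fin 3, a ≠ b → Function.Injective fun t : F => φ (tv a b t)) {g : Y}
    (hg : ∀ a b : Fin 3, a ≠ b → ∀ s : F, ∃ t : F, g * φ (tv a b s) * g⁻¹ = φ (tv (Fin.rev b) (Fin.rev a) t)) :
    ∃ (τ : F ≃+* F) (C : GL (Fin 3) F), ∀ x, g * φ x * g⁻¹ = φ (swapHom C τ x) := by
  choose! f hf using hg
  have hrev : ∀ {a b : Fin 3}, a ≠ b → Fin.rev b ≠ Fin.rev a := fun hab h => hab (Fin.rev_injective h).symm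
  obtain ⟨τ, d, hd, hτ⟩ := exists_ringEquiv (f := fun a b s => -f a b s) (by
      intro a b hab s t
      have h1 := hf a b hab (s + t)
      rw [tv_add, map_mul] at h1
      have h2 : g * (φ (tv a b s) * φ (tv a b t)) * g⁻¹ = (g * φ (tv a b s) * g⁻¹) * (g * φ (tv a b t) * g⁻¹) := by
        group
      rw [h2, hf a b hab, hf a b hab, ← map_mul, ← tv_add] at h1
      change -f a b (s + t) = -f a b s + -f a b t
      rw [← hinj _ _ (hrev hab) h1]
      ring) (by
      intro a b c hab hbc hac s t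
      have h1 := hf a c hac (s * t)
      rw [← tv_comm hab hbc hac, map_commutatorElement, conjugate_commutatorElement] at h1
      rw [hf a b hab, hf b c hbc, ← map_commutatorElement, ← commutatorElement_inv,
        tv_comm (hrev hbc) (hrev hab) (hrev hac), ← tv_neg] at h1
      change -f a c (s * t) = -f a b s * -f b c t
      rw [← hinj _ _ (hrev hac) h1]
      ring) (by
      intro a b hab h0
      have h1 := hf a b hab 1
      rw [neg_eq_zero.1 h0, tv_zero, map_one, mul_inv_eq_one, mul_eq_left, ← map_one φ, ← tv_zero a b] at h1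
      exact one_ne_zero (hinj a b hab h1))
  refine ⟨τ, swapC d hd, fun x => ?_⟩
  have h1 : (MulAut.conj g).toMonoidHom.comp φ = φ.comp (swapHom (swapC d hd) τ) := by
    refine hom_ext_tv fun a b hab s => ?_
    rw [MonoidHom.comp_apply, MonoidHom.comp_apply, swapHom_tv d hd τ hab]
    change g * φ (tv a b s) * g⁻¹ = _
    rw [hf a b hab, ← hτ a b hab s, neg_neg]
  exact DFunLike.congr_fun h1 x

/-- **Elements which fix the root groups.** -/
theorem exists_dir (hinj : ∀ a b : Fin 3, a ≠ b → Function.Injective fun t : F => φ (tv a b t)) {g : Y}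
    (hg : ∀ a b : Fin 3, a ≠ b → ∀ s : F, ∃ t : F, g * φ (tv a b s) * g⁻¹ = φ (tv a b t)) :
    ∃ (τ : F ≃+* F) (C : GL (Fin 3) F), ∀ x, g * φ x * g⁻¹ = φ (dirHom C τ x) := by
  choose! f hf using hg
  obtain ⟨τ, d, hd, hτ⟩ := exists_ringEquiv (f := fun a b s => f a b s) (by
      intro a b hab s t
      have h1 := hf a b hab (s + t)
      rw [tv_add, map_mul] at h1
      have h2 : g * (φ (tv a b s) * φ (tv a b t)) * g⁻¹ = (g * φ (tv a b s) * g⁻¹) * (g * φ (tv a b t) * g⁻¹) := by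
        group
      rw [h2, hf a b hab, hf a b hab, ← map_mul, ← tv_add] at h1
      exact (hinj _ _ hab h1).symm) (by
      intro a b c hab hbc hac s t
      have h1 := hf a c hac (s * t)
      rw [← tv_comm hab hbc hac, map_commutatorElement, conjugate_commutatorElement] at h1
      rw [hf a b hab, hf b c hbc, ← map_commutatorElement, tv_comm hab hbc hac] at h1
      exact (hinj _ _ hac h1).symm) (by
      intro a b hab h0
      have h1 := hf a b hab 1
      rw [h0, tv_zero, map_one, mul_inv_eq_one, mul_eq_left, ← map_one φ, ← tv_zero a b] at h1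
      exact one_ne_zero (hinj a b hab h1))
  refine ⟨τ, dirC d hd, fun x => ?_⟩
  have h1 : (MulAut.conj g).toMonoidHom.comp φ = φ.comp (dirHom (dirC d hd) τ) := by
    refine hom_ext_tv fun a b hab s => ?_
    rw [MonoidHom.comp_apply, MonoidHom.comp_apply, dirHom_tv d hd τ hab]
    change g * φ (tv a b s) * g⁻¹ = _
    rw [hf a b hab, ← hτ a b hab s]
  exact DFunLike.congr_fun h1 x

end three

end Cfsg.Agent.H622.Levi
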